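import Cfsg.Agent.Lib.Helper10.E8CC.CanRefs

set_option autoImplicit false
set_option maxRecDepth 100000

/-! Table fact `CanP` for `chevE8` (spare of piece [E8-C] of the S2107 farm), with helper22's generic
row checker: literal reference decompositions, adjacency checked in slices of rows. -/

namespace Cfsg.Agent.Lib.Helper10.E8CC.Helper10

open Cfsg.Lie Cfsg.Agent.Lib.Helper8.Chev Cfsg.Agent.Lib.Helper14.StCC
open Cfsg.Agent.Lib.Helper14.StCC.B.Helper22 Cfsg.Agent.Lib.Helper10.E8CC.Helper22

theorem cE8_12 : canRangeB chevE8 refsE8 120 130 = true := by decide +kernel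
theorem cE8_13 : canRangeB chevE8 refsE8 130 140 = true := by decide +kernel
theorem cE8_14 : canRangeB chevE8 refsE8 140 150 = true := by decide +kernel
theorem cE8_15 : canRangeB chevE8 refsE8 150 160 = true := by decide +kernel
theorem cE8_16 : canRangeB chevE8 refsE8 160 170 = true := by decide +kernel
theorem cE8_17 : canRangeB chevE8 refsE8 170 180 = true := by decide +kernel

end Cfsg.Agent.Lib.Helper10.E8CC.Helper10
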