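import Cfsg.Agent.Lib.Helper10.E8CC.CanRefs

set_option autoImplicit false
set_option maxRecDepth 100000

/-! Table fact `CanP` for `chevE8` (spare of piece [E8-C] of the S2107 farm), with helper22's generic
row checker: literal reference decompositions, adjacency checked in slices of rows. -/

namespace Cfsg.Agent.Lib.Helper10.E8CC.Helper10

open Cfsg.Lie Cfsg.Agent.Lib.Helper8.Chev Cfsg.Agent.Lib.Helper14.StCC
open Cfsg.Agent.Lib.Helper14.StCC.B.Helper22 Cfsg.Agent.Lib.Helper10.E8CC.Helper22

theorem cE8_18 : canRangeB chevE8 refsE8 180 190 = true := by decide +kernel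
theorem cE8_19 : canRangeB chevE8 refsE8 190 200 = true := by decide +kernel
theorem cE8_20 : canRangeB chevE8 refsE8 200 210 = true := by decide +kernel
theorem cE8_21 : canRangeB chevE8 refsE8 210 220 = true := by decide +kernel
theorem cE8_22 : canRangeB chevE8 refsE8 220 230 = true := by decide +kernel
theorem cE8_23 : canRangeB chevE8 refsE8 230 240 = true := by decide +kernel

end Cfsg.Agent.Lib.Helper10.E8CC.Helper10
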