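import Cfsg.Agent.Lib.Helper10.E8CC.CanA
import Cfsg.Agent.Lib.Helper10.E8CC.CanB
import Cfsg.Agent.Lib.Helper10.E8CC.CanC
import Cfsg.Agent.Lib.Helper10.E8CC.CanD

set_option autoImplicit false
set_option maxRecDepth 100000

/-! Table fact `CanP` for `chevE8` (spare of piece [E8-C] of the S2107 farm), with helper22's generic
row checker: literal reference decompositions, adjacency checked in slices of rows. -/

namespace Cfsg.Agent.Lib.Helper10.E8CC.Helper10

open Cfsg.Lie Cfsg.Agent.Lib.Helper8.Chev Cfsg.Agent.Lib.Helper14.StCC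
open Cfsg.Agent.Lib.Helper14.StCC.B.Helper22 Cfsg.Agent.Lib.Helper10.E8CC.Helper22

theorem canRowB_E8 : ∀ a < chevE8.nroots, canRowB chevE8 refsE8 a = true := by
  intro a ha
  have ha' : a < 240 := ha
  by_cases h0 : a < 10
  · exact canRowB_of_range cE8_0 (by omega) h0
  by_cases h1 : a < 20
  · exact canRowB_of_range cE8_1 (by omega) h1
  by_cases h2 : a < 30
  · exact canRowB_of_range cE8_2 (by omega) h2
  by_cases h3 : a < 40
  · exact canRowB_of_range cE8_3 (by omega) h3
  by_cases h4 : a < 50
  · exact canRowB_of_range cE8_4 (by omega) h4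
  by_cases h5 : a < 60
  · exact canRowB_of_range cE8_5 (by omega) h5
  by_cases h6 : a < 70
  · exact canRowB_of_range cE8_6 (by omega) h6
  by_cases h7 : a < 80
  · exact canRowB_of_range cE8_7 (by omega) h7
  by_cases h8 : a < 90
  · exact canRowB_of_range cE8_8 (by omega) h8
  by_cases h9 : a < 100
  · exact canRowB_of_range cE8_9 (by omega) h9
  by_cases h10 : a < 110
  · exact canRowB_of_range cE8_10 (by omega) h10
  by_cases h11 : a < 120
  · exact canRowB_of_range cE8_11 (by omega) h11
  by_cases h12 : a < 130
  · exact canRowB_of_range cE8_12 (by omega) h12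
  by_cases h13 : a < 140
  · exact canRowB_of_range cE8_13 (by omega) h13
  by_cases h14 : a < 150
  · exact canRowB_of_range cE8_14 (by omega) h14
  by_cases h15 : a < 160
  · exact canRowB_of_range cE8_15 (by omega) h15
  by_cases h16 : a < 170
  · exact canRowB_of_range cE8_16 (by omega) h16
  by_cases h17 : a < 180
  · exact canRowB_of_range cE8_17 (by omega) h17
  by_cases h18 : a < 190
  · exact canRowB_of_range cE8_18 (by omega) h18
  by_cases h19 : a < 200
  · exact canRowB_of_range cE8_19 (by omega) h19
  by_cases h20 : a < 210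
  · exact canRowB_of_range cE8_20 (by omega) h20
  by_cases h21 : a < 220
  · exact canRowB_of_range cE8_21 (by omega) h21
  by_cases h22 : a < 230
  · exact canRowB_of_range cE8_22 (by omega) h22
  by_cases h23 : a < 240
  · exact canRowB_of_range cE8_23 (by omega) h23
  omega

/-- spare of [E8-C] -/
theorem canP_E8_spare {q : ℕ} (hq : q < chevE8.nroots) : CanP chevE8 q :=
  canP_of slB_E8 refB_E8 canRowB_E8 hq

end Cfsg.Agent.Lib.Helper10.E8CC.Helper10
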