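import Mathlib

set_option autoImplicit false

/-! Generic commutator calculus for central extensions (for S2107, the case `|K| = 2`). -/

namespace Cfsg.Agent.Lib.Helper10.E8CC

variable {E : Type*} [Group E]

/-- `kap A B = (A B)⁻¹ (B A)`, so that `B A = A B (kap A B)` -/
def kap (A B : E) : E := (A * B)⁻¹ * (B * A)

theorem kap_spec (A B : E) : B * A = A * B * kap A B := by
  unfold kap; group

theorem kap_swap (A B : E) : kap B A = (kap A B)⁻¹ := by
  unfold kap; group

theorem map_kap {Γ : Type*} [Group Γ] (ψ : E →* Γ) (A B : E) :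
    ψ (kap A B) = kap (ψ A) (ψ B) := by
  unfold kap; simp only [map_mul, map_inv]

theorem kap_mul_central {A B z w : E} (hz : z ∈ Subgroup.center E)
    (hw : w ∈ Subgroup.center E) : kap (A * z) (B * w) = kap A B := by
  rw [Subgroup.mem_center_iff] at hz hw
  unfold kap
  have e1 : A * z * (B * w) = A * B * (z * w) := by
    rw [mul_assoc A z, ← mul_assoc z B, ← hz B]; group
  have e2 : B * w * (A * z) = B * A * (z * w) := by
    rw [mul_assoc B w, ← mul_assoc w A, ← hw A, mul_assoc A w z, ← hw z]; group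
  rw [e1, e2]
  have e3 : (A * B * (z * w))⁻¹ = (z * w)⁻¹ * (A * B)⁻¹ := by group
  rw [e3]
  have hzw : ∀ g : E, g * (z * w) = (z * w) * g := by
    intro g
    rw [← mul_assoc, hz g, mul_assoc, hw g, mul_assoc]
  rw [mul_assoc, ← mul_assoc (A * B)⁻¹, hzw ((A * B)⁻¹ * (B * A)), ← mul_assoc, inv_mul_cancel,
    one_mul]

section ext

variable {Γ : Type*} [Group Γ] (ψ : E →* Γ) (hc : ψ.ker ≤ Subgroup.center E)
include hc

theorem exists_central_of_map_eq {A A' : E} (h : ψ A = ψ A') :
    ∃ z ∈ Subgroup.center E, A' = A * z := by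
  refine ⟨A⁻¹ * A', hc ?_, by group⟩
  rw [MonoidHom.mem_ker, map_mul, map_inv, h, inv_mul_cancel]

/-- `kap A B` only depends on the images of `A` and `B` -/
theorem kap_congr {A A' B B' : E} (hA : ψ A = ψ A') (hB : ψ B = ψ B') :
    kap A' B' = kap A B := by
  obtain ⟨z, hz, rfl⟩ := exists_central_of_map_eq ψ hc hA
  obtain ⟨w, hw, rfl⟩ := exists_central_of_map_eq ψ hc hB
  exact kap_mul_central hz hw

theorem conj_eq_mul_central {R A : E} (h : ψ A * ψ R = ψ R * ψ A) :
    ∃ z ∈ Subgroup.center E, R * A * R⁻¹ = A * z := by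
  apply exists_central_of_map_eq ψ hc
  rw [map_mul, map_mul, map_inv, ← h]; group

/-- Step 1: if `xs = kap xa xb` and `xr` commutes with `xa` and `xb`, then every lift of `xr`
commutes with every lift of `xs` -/
theorem lift_comm_of_dec (hψ : Function.Surjective ψ) {xr xa xb xs : Γ} (hs : xs = kap xa xb)
    (hra : xa * xr = xr * xa) (hrb : xb * xr = xr * xb) {R S' : E} (hR : ψ R = xr)
    (hS : ψ S' = xs) : R * S' = S' * R := by
  obtain ⟨A, rfl⟩ := hψ xa
  obtain ⟨B, rfl⟩ := hψ xb
  subst hR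
  have hS' : ψ (kap A B) = ψ S' := by rw [hS, hs, map_kap]
  obtain ⟨z, hz, rfl⟩ := exists_central_of_map_eq ψ hc hS'
  obtain ⟨z1, hz1, e1⟩ := conj_eq_mul_central ψ hc hra
  obtain ⟨z2, hz2, e2⟩ := conj_eq_mul_central ψ hc hrb
  have e3 : R * kap A B * R⁻¹ = kap (R * A * R⁻¹) (R * B * R⁻¹) := by
    unfold kap; group
  rw [e1, e2, kap_mul_central hz1 hz2] at e3
  rw [Subgroup.mem_center_iff] at hz
  have e4 : R * kap A B = kap A B * R := by
    have := congrArg (· * R) e3
    simpa [mul_assoc] using this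
  rw [← mul_assoc, e4, mul_assoc, hz R, mul_assoc]

end ext

/-- Step 3: `kap A B` has order at most two when `B²` is central and `B` commutes with it -/
theorem kap_sq {A B : E} (hB : B * B ∈ Subgroup.center E)
    (hk : B * kap A B = kap A B * B) : kap A B * kap A B = 1 := by
  rw [Subgroup.mem_center_iff] at hB
  have h1 : A⁻¹ * B * A = B * kap A B := by unfold kap; group
  have h2 : A⁻¹ * (B * B) * A = B * kap A B * (B * kap A B) := by
    rw [← h1]; group
  have h3 : A⁻¹ * (B * B) * A = B * B := by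
    rw [mul_assoc, ← hB A]; group
  have h4 : B * kap A B * (B * kap A B) = B * B * (kap A B * kap A B) := by
    rw [mul_assoc B (kap A B), ← mul_assoc (kap A B) B, ← hk]; group
  rw [h3, h4] at h2
  exact (mul_eq_left.mp h2.symm)

/-- Step 2: adjacent decompositions give the same element -/
theorem kap_adj {A C B₀ : E} (h3 : B₀ * A = A * B₀)
    (hPQ : kap A C * kap C B₀ = kap C B₀ * kap A C)
    (hQK : kap C B₀ * kap A (kap C B₀) = kap A (kap C B₀) * kap C B₀) :
    kap A (kap C B₀) = kap (kap A C) B₀ := by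
  set P := kap A C with hP
  set Q := kap C B₀ with hQ
  set K₁ := kap A Q with hK₁
  set K₂ := kap P B₀ with hK₂
  have r1 : C * A = A * C * P := kap_spec A C
  have r2 : B₀ * C = C * B₀ * Q := kap_spec C B₀
  have r4 : Q * A = A * Q * K₁ := kap_spec A Q
  have r5 : B₀ * P = P * B₀ * K₂ := kap_spec P B₀
  -- two ways to rewrite `B₀ C A`
  have w1 : B₀ * (C * A) = A * C * (B₀ * Q * P) := by
    rw [r1, ← mul_assoc, ← mul_assoc, h3, mul_assoc A B₀ C, r2]; group
  have w2 : B₀ * C * A = A * C * (P * B₀ * Q * K₁) := by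
    rw [r2, mul_assoc (C * B₀) Q A, r4, ← mul_assoc, ← mul_assoc, mul_assoc C B₀ A, h3,
      ← mul_assoc, r1]; group
  have w3 : B₀ * Q * P = P * B₀ * Q * K₁ := by
    have : A * C * (B₀ * Q * P) = A * C * (P * B₀ * Q * K₁) := by
      rw [← w1, ← w2, mul_assoc]
    exact mul_left_cancel this
  -- `B₀ Q P = B₀ P Q = P B₀ K₂ Q`
  have w4 : B₀ * Q * P = P * B₀ * K₂ * Q := by
    rw [mul_assoc, ← hPQ, ← mul_assoc, r5]
  have w5 : K₂ * Q = Q * K₁ := by
    have : P * B₀ * (K₂ * Q) = P * B₀ * (Q * K₁) := by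
      rw [← mul_assoc, ← w4, w3]; group
    exact mul_left_cancel this
  rw [hQK] at w5
  exact (mul_right_cancel w5).symm

end Cfsg.Agent.Lib.Helper10.E8CC
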