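import Cfsg.Agent.Lib.Helper10.E8CC.Defs
import Cfsg.Agent.Lib.Helper10.E8CC.Kap
import Cfsg.Agent.Lib.Helper14.StCC.SectionCore

set_option autoImplicit false

/-! S2107, the case `|K| = 2`: every central extension of the group of a simply laced type
presented by (R1), (R2) over the field with two elements splits, from three table facts about the
datum (`SL1`, `Dec1`, `CanP`).  Pure commutator calculus (no torus). -/

namespace Cfsg.Agent.Lib.Helper10.E8CC

open Cfsg.Lie Cfsg.Agent.Lib.Helper8.Chev Cfsg.Agent.Lib.Helper14.StCC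

variable {D : ChevalleyDatum} {K : Type*} [Field K] {Γ : Type*} [Group Γ] {E : Type*} [Group E]

section sectionOf

/-- lifts of the root elements satisfying (R1) and (R2) give a section (as helper14's
`exists_section_of`, without the torus condition) -/
theorem exists_section_of_lifts
    (hD : D ∈ [chevG2, chevB2, chevD4, chevF4, chevE6, chevE7, chevE8])
    (ψ : E →* D.SteinbergCover K) (φ : ℕ → K → E)
    (hmap : ∀ r < D.nroots, ∀ t : K, ψ (φ r t) = D.scGen K r t)
    (hadd : ∀ r < D.nroots, ∀ t u : K, φ r t * φ r u = φ r (t + u))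
    (hcomm : ∀ r < D.nroots, ∀ s < D.nroots, s ≠ r → s ≠ D.neg r → ∀ t u : K,
      φ s u * φ r t = φ r t * φ s u * wS φ (D.commWord K r s t u)) :
    ∃ τ : D.SteinbergCover K →* E, ψ.comp τ = MonoidHom.id _ := by
  have V := valid0_of_mem hD
  have hrel : ∀ g ∈ D.steinbergRelsAB K,
      FreeGroup.lift (fun a : Fin D.nroots × K => φ a.1.val a.2) g = 1 := by
    rintro g (⟨r, t₁, t₂, hr, rfl⟩ | ⟨r, s, t, u, hr, hs, h1, h2, rfl⟩)
    · rw [map_mul, map_mul, map_inv, lift_stX_of φ hr, lift_stX_of φ hr, lift_stX_of φ hr,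
        hadd r hr, mul_inv_cancel]
    · have hw : ∀ p ∈ D.commWord K r s t u, p.1 < D.nroots := by
        intro p hp
        unfold ChevalleyDatum.commWord at hp
        obtain ⟨c, hc', rfl⟩ := List.mem_map.mp hp
        exact commTerms_lt V hr hs c hc'
      rw [map_mul, map_mul, map_mul, map_mul, map_inv, map_inv, map_inv,
        lift_stWord_of φ _ hw, lift_stX_of φ hr, lift_stX_of φ hs]
      have e := hcomm r hr s hs h1 h2 t u
      have e' : wS φ (D.commWord K r s t u) = (φ r t * φ s u)⁻¹ * (φ s u * φ r t) := by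
        rw [e]; group
      rw [e']
      group
  refine ⟨PresentedGroup.toGroup hrel, ?_⟩
  apply PresentedGroup.ext
  intro a
  rw [MonoidHom.comp_apply, PresentedGroup.toGroup.of, MonoidHom.id_apply]
  have := hmap a.1.val a.1.isLt a.2
  rw [this]
  show D.scGen K a.1.val a.2 = _
  unfold ChevalleyDatum.scGen ChevalleyDatum.stX PresentedGroup.of
  rw [dif_pos a.1.isLt]

end sectionOf

section char2

variable (hK2 : ∀ x : K, x = 0 ∨ x = 1)
include hK2

theorem one_add_one_eq_zero : (1 : K) + 1 = 0 := by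
  rcases hK2 (1 + 1) with h | h
  · exact h
  · exfalso
    have : (1 : K) = 0 := by
      have h' : (1 : K) + 1 = 1 + 0 := by rw [h, add_zero]
      exact add_left_cancel h'
    exact one_ne_zero this

theorem neg_one_eq_one : (-1 : K) = 1 :=
  neg_eq_of_add_eq_zero_left (one_add_one_eq_zero hK2)

theorem coef_eq_one {N : ℤ} (hN : N = 1 ∨ N = -1) : ((N : K) * (-1) ^ 1 * 1 ^ 1) = 1 := by
  rcases hN with rfl | rfl
  · simp [neg_one_eq_one hK2]
  · simp [neg_one_eq_one hK2]

variable (S : StRep D K Γ)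

/-- the relation (R2) of a one-term pair, at `t = u = 1` -/
theorem x_one_eq_kap {a b q : ℕ} {N : ℤ} (h : B.OneP D a b q N) (hN : N = 1 ∨ N = -1) :
    S.x q 1 = kap (S.x a 1) (S.x b 1) := by
  obtain ⟨ha, hb, h1, h2, hT⟩ := h
  have := S.comm a ha b hb h1 h2 1 1
  unfold ChevalleyDatum.commWord at this
  rw [hT] at this
  simp only [List.map_cons, List.map_nil, wS_cons, wS_nil, mul_one] at this
  rw [coef_eq_one hK2 hN] at this
  unfold kap
  rw [this]
  group

omit hK2 in
/-- the relation (R2) of a commuting pair -/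
theorem x_comm_of_nil {r a : ℕ} (h : B.NilP D r a) (t u : K) :
    S.x a u * S.x r t = S.x r t * S.x a u := by
  obtain ⟨hr, ha, h1, h2, hT⟩ := h
  have := S.comm r hr a ha h1 h2 t u
  unfold ChevalleyDatum.commWord at this
  rw [hT] at this
  simpa using this

variable (ψ : E →* Γ) (hψ : Function.Surjective ψ) (hc : ψ.ker ≤ Subgroup.center E)
  (hdec : ∀ r s : ℕ, r < D.nroots → s < D.nroots → s ≠ r → s ≠ D.neg r →
    D.commTerms r s = [] → Dec1 D r s)
include hψ hc hdec

/-- Step 1: lifts of commuting root elements commute -/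
theorem lifts_comm {r s : ℕ} (h : B.NilP D r s) {R S' : E} (hR : ψ R = S.x r 1)
    (hS : ψ S' = S.x s 1) : R * S' = S' * R := by
  obtain ⟨hr, hs, h1, h2, hT⟩ := h
  obtain ⟨a, b, N, hO, hN, hra, hrb⟩ := hdec r s hr hs h1 h2 hT
  exact lift_comm_of_dec ψ hc hψ (x_one_eq_kap hK2 S hO hN) (x_comm_of_nil S hra 1 1)
    (x_comm_of_nil S hrb 1 1) hR hS

/-- Step 2: adjacent decompositions give the same element -/
theorem kap_eq_of_adjI {a b a' b' q : ℕ} {N : ℤ} (hO : B.OneP D a b q N) (hN : N = 1 ∨ N = -1)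
    (h : AdjI D a b a' b' q) {A B' A' B'' : E} (hA : ψ A = S.x a 1) (hB : ψ B' = S.x b 1)
    (hA' : ψ A' = S.x a' 1) (hB'' : ψ B'' = S.x b' 1) : kap A B' = kap A' B'' := by
  obtain ⟨c, N₁, N₂, hO1, hN1, hO2, hN2, n1, n2, _, n4⟩ := h
  obtain ⟨C, hC⟩ := hψ (S.x c 1)
  have hP : ψ (kap A C) = S.x a' 1 := by
    rw [map_kap, hA, hC, ← x_one_eq_kap hK2 S hO1 hN1]
  have hQ : ψ (kap C B'') = S.x b 1 := by
    rw [map_kap, hC, hB'', ← x_one_eq_kap hK2 S hO2 hN2]
  have hK : ψ (kap A (kap C B'')) = S.x q 1 := by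
    rw [map_kap, hA, hQ, ← x_one_eq_kap hK2 S hO hN]
  have h3 : B'' * A = A * B'' := (lifts_comm hK2 S ψ hψ hc hdec n1 hA hB'').symm
  have hPQ : kap A C * kap C B'' = kap C B'' * kap A C :=
    lifts_comm hK2 S ψ hψ hc hdec n2 hP hQ
  have hQK : kap C B'' * kap A (kap C B'') = kap A (kap C B'') * kap C B'' :=
    lifts_comm hK2 S ψ hψ hc hdec n4 hQ hK
  have key := kap_adj h3 hPQ hQK
  have e1 : kap A B' = kap A (kap C B'') :=
    kap_congr ψ hc rfl (hQ.trans hB.symm)
  have e2 : kap A' B'' = kap (kap A C) B'' :=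
    kap_congr ψ hc (hP.trans hA'.symm) rfl
  rw [e1, e2, key]

end char2

/-- the lifts over the field with two elements -/
theorem exists_lifts_two (S : StRep D K Γ) (hK2 : ∀ x : K, x = 0 ∨ x = 1)
    (hshape : ∀ r s : ℕ, r < D.nroots → s < D.nroots → s ≠ r → s ≠ D.neg r → SL1 D r s)
    (hdec : ∀ r s : ℕ, r < D.nroots → s < D.nroots → s ≠ r → s ≠ D.neg r →
      D.commTerms r s = [] → Dec1 D r s)
    (hcan : ∀ q : ℕ, q < D.nroots → CanP D q)
    (ψ : E →* Γ) (hψ : Function.Surjective ψ) (hc : ψ.ker ≤ Subgroup.center E) :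
    ∃ φ : ℕ → K → E, (∀ r < D.nroots, ∀ t : K, ψ (φ r t) = S.x r t) ∧
      (∀ r < D.nroots, ∀ t u : K, φ r t * φ r u = φ r (t + u)) ∧
      (∀ r < D.nroots, ∀ s < D.nroots, s ≠ r → s ≠ D.neg r → ∀ t u : K,
        φ s u * φ r t = φ r t * φ s u * wS φ (D.commWord K r s t u)) := by
  classical
  have V := valid0_of_mem S.hD
  choose lft hlft using fun r : ℕ => hψ (S.x r 1)
  choose! a₀ b₀ N₀ hcan' using hcan
  -- the reference elements
  set Y : ℕ → E := fun q => kap (lft (a₀ q)) (lft (b₀ q)) with hY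
  have hYmap : ∀ q < D.nroots, ψ (Y q) = S.x q 1 := by
    intro q hq
    obtain ⟨hO, hN, -, -⟩ := hcan' q hq
    rw [hY, map_kap, hlft, hlft, ← x_one_eq_kap hK2 S hO hN]
  have h11 : ∀ q < D.nroots, S.x q 1 * S.x q 1 = 1 := by
    intro q hq
    rw [S.add q hq, one_add_one_eq_zero hK2, S.x_zero hq]
  -- Step 3
  have hYsq : ∀ q < D.nroots, Y q * Y q = 1 := by
    intro q hq
    obtain ⟨hO, hN, hnil, -⟩ := hcan' q hq
    apply kap_sq
    · apply hc
      rw [MonoidHom.mem_ker, map_mul, hlft, h11 _ hO.2.1]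
    · exact lifts_comm hK2 S ψ hψ hc hdec hnil (hlft _) (hYmap q hq)
  have hYinv : ∀ q < D.nroots, (Y q)⁻¹ = Y q := fun q hq =>
    inv_eq_of_mul_eq_one_left (hYsq q hq)
  -- independence of the decomposition
  have hind : ∀ (a b q : ℕ) (N : ℤ), q < D.nroots → B.OneP D a b q N → (N = 1 ∨ N = -1) →
      ∀ A B' : E, ψ A = S.x a 1 → ψ B' = S.x b 1 → kap A B' = Y q := by
    intro a b q N hq hO hN A B' hA hB
    obtain ⟨-, -, -, hadj⟩ := hcan' q hq
    rcases hadj a b N hO with ⟨rfl, rfl⟩ | ⟨rfl, rfl⟩ | h | h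
    · exact kap_congr ψ hc ((hlft _).trans hA.symm) ((hlft _).trans hB.symm)
    · have : kap A B' = kap (lft (b₀ q)) (lft (a₀ q)) :=
        kap_congr ψ hc ((hlft _).trans hA.symm) ((hlft _).trans hB.symm)
      rw [this, kap_swap, hYinv q hq]
    · exact kap_eq_of_adjI hK2 S ψ hψ hc hdec hO hN h hA hB (hlft _) (hlft _)
    · have : kap A B' = kap (lft (b₀ q)) (lft (a₀ q)) :=
        kap_eq_of_adjI hK2 S ψ hψ hc hdec hO hN h hA hB (hlft _) (hlft _)
      rw [this, kap_swap, hYinv q hq]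
  -- the lifts
  refine ⟨fun q t => if t = 0 then 1 else Y q, ?_, ?_, ?_⟩
  · intro r hr t
    rcases hK2 t with rfl | rfl
    · simp [S.x_zero hr]
    · simp [hYmap r hr]
  · intro r hr t u
    rcases hK2 t with rfl | rfl
    · simp
    · rcases hK2 u with rfl | rfl
      · simp
      · simp [one_add_one_eq_zero hK2, hYsq r hr]
  · intro r hr s hs h1 h2 t u
    have hnil0 : ∀ q : ℕ, ∀ N : ℤ, ((N : K) * (-(0 : K)) ^ 1 * u ^ 1) = 0 := by
      intro q N; simp
    rcases hshape r s hr hs h1 h2 with hT | ⟨q, N, hT, hN⟩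
    · unfold ChevalleyDatum.commWord
      rw [hT]
      simp only [List.map_nil, wS_nil, mul_one]
      rcases hK2 t with rfl | rfl
      · simp
      · rcases hK2 u with rfl | rfl
        · simp
        · simp only [one_ne_zero, if_false]
          exact (lifts_comm hK2 S ψ hψ hc hdec ⟨hr, hs, h1, h2, hT⟩ (hYmap r hr)
            (hYmap s hs)).symm
    · have hq : q < D.nroots :=
        commTerms_lt V hr hs (q, N, 1, 1) (by rw [hT]; exact List.mem_cons_self)
      unfold ChevalleyDatum.commWord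
      rw [hT]
      simp only [List.map_cons, List.map_nil, wS_cons, wS_nil, mul_one]
      rcases hK2 t with rfl | rfl
      · simp
      · rcases hK2 u with rfl | rfl
        · simp
        · rw [coef_eq_one hK2 hN]
          simp only [one_ne_zero, if_false]
          rw [kap_spec (Y r) (Y s),
            hind r s q N hq ⟨hr, hs, h1, h2, hT⟩ hN (Y r) (Y s) (hYmap r hr) (hYmap s hs)]

/-- every central extension of the group presented by (R1), (R2) over the field with two elements
splits, from the three table facts -/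
theorem exists_section_two
    (hD : D ∈ [chevG2, chevB2, chevD4, chevF4, chevE6, chevE7, chevE8])
    (hK2 : ∀ x : K, x = 0 ∨ x = 1)
    (hshape : ∀ r s : ℕ, r < D.nroots → s < D.nroots → s ≠ r → s ≠ D.neg r → SL1 D r s)
    (hdec : ∀ r s : ℕ, r < D.nroots → s < D.nroots → s ≠ r → s ≠ D.neg r →
      D.commTerms r s = [] → Dec1 D r s)
    (hcan : ∀ q : ℕ, q < D.nroots → CanP D q)
    (ψ : E →* D.SteinbergCover K) (hψ : Function.Surjective ψ)
    (hc : ψ.ker ≤ Subgroup.center E) :
    ∃ τ : D.SteinbergCover K →* E, ψ.comp τ = MonoidHom.id _ := by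
  obtain ⟨φ, hmap, hadd, hcomm⟩ := exists_lifts_two
    (scRepOf hD (scHom hD K) (fun r t hr => scHom_scGen hD r t hr)) hK2 hshape hdec hcan ψ hψ hc
  exact exists_section_of_lifts hD ψ φ hmap hadd hcomm

end Cfsg.Agent.Lib.Helper10.E8CC
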