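import Cfsg.Agent.Lib.Helper16.F4CC.Defs

set_option autoImplicit false

/-! S2107 (the Schur multiplier of `E₈(q)` is trivial for every `q`): every central extension of
the group of type `E₈` presented by (R1), (R2) splits, over EVERY field.  Shared definitions
(architect helper10).

* `|K| ≥ 3`: helper16's route for `F₄` (torus elements `v ≠ 0, 1`); `E₈` is simply laced, so every
  pair `(r, s)` has a coweight `m` with `⟨r, m⟩ = 0`, `⟨s, m⟩ = ±1`.
* `|K| = 2`: no torus.  Pure commutator proof: `y_q := (A B)⁻¹ (B A)` for lifts `A, B` of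
  `x_a(1), x_b(1)`, `q = a + b`; lifts of commuting root elements commute (`Dec1`); `y_q` does not
  depend on the decomposition (`Adj`); `y_q² = 1`; hence the `y_q` satisfy (R1), (R2). -/

namespace Cfsg.Agent.Lib.Helper10.E8CC

open Cfsg.Lie Cfsg.Agent.Lib.Helper8.Chev Cfsg.Agent.Lib.Helper14.StCC

/-- the commutator formula of the admissible pair `(r, s)` is empty or has the single term
`(q, ±1, 1, 1)` (simply laced shape) -/
def SL1 (D : ChevalleyDatum) (r s : ℕ) : Prop :=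
  D.commTerms r s = [] ∨
    ∃ (q : ℕ) (N : ℤ), D.commTerms r s = [(q, N, 1, 1)] ∧ (N = 1 ∨ N = -1)

/-- the root `s` is the single term, with coefficient `±1`, of the commutator formula of a pair
`(a, b)` of roots both commuting with `r` -/
def Dec1 (D : ChevalleyDatum) (r s : ℕ) : Prop :=
  ∃ (a b : ℕ) (N : ℤ), B.OneP D a b s N ∧ (N = 1 ∨ N = -1) ∧ B.NilP D r a ∧ B.NilP D r b

/-- the decompositions `q = a + b = a' + b'` are adjacent: `a' = a + c`, `b = c + b'`, with the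
commuting pairs the proof uses -/
def AdjI (D : ChevalleyDatum) (a b a' b' q : ℕ) : Prop :=
  ∃ (c : ℕ) (N₁ N₂ : ℤ), B.OneP D a c a' N₁ ∧ (N₁ = 1 ∨ N₁ = -1) ∧
    B.OneP D c b' b N₂ ∧ (N₂ = 1 ∨ N₂ = -1) ∧
    B.NilP D a b' ∧ B.NilP D a' b ∧ B.NilP D a' q ∧ B.NilP D b q

/-- the decomposition `(a, b)` of `q` is the reference decomposition `(a₀, b₀)`, its mirror, or
adjacent to one of the two -/
def Adj (D : ChevalleyDatum) (a b a₀ b₀ q : ℕ) : Prop :=
  (a = a₀ ∧ b = b₀) ∨ (a = b₀ ∧ b = a₀) ∨ AdjI D a b a₀ b₀ q ∨ AdjI D a b b₀ a₀ q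

/-- the root `q` has a reference decomposition `q = a₀ + b₀` to which every decomposition is
adjacent -/
def CanP (D : ChevalleyDatum) (q : ℕ) : Prop :=
  ∃ (a₀ b₀ : ℕ) (N₀ : ℤ), B.OneP D a₀ b₀ q N₀ ∧ (N₀ = 1 ∨ N₀ = -1) ∧ B.NilP D b₀ q ∧
    ∀ (a b : ℕ) (N : ℤ), B.OneP D a b q N → Adj D a b a₀ b₀ q

end Cfsg.Agent.Lib.Helper10.E8CC
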