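import Cfsg.Agent.Lib.Helper10.E8CC.Char2
import Cfsg.Agent.Lib.Helper16.F4CC.SectionGen
import Cfsg.Agent.S2395
import Cfsg.Agent.Lib.Helper2.E8CCS
import Cfsg.Agent.Lib.Helper9.E8CCD
import Cfsg.Agent.Lib.Helper11.E8CCT1
import Cfsg.Agent.Lib.Helper12.E8CCT2
import Cfsg.Agent.Lib.Helper10.E8CC.CanSpare

set_option autoImplicit false

/-! S2107: every central extension of the group of type `E₈` presented by (R1), (R2) splits, over
every field (`|K| = 2`: pure commutator calculus; `|K| ≥ 3`: helper16's generic route). -/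

namespace Cfsg.Agent.Lib.Helper10.E8CC

open Cfsg.Lie Cfsg.Agent.Lib.Helper8.Chev Cfsg.Agent.Lib.Helper14.StCC

variable {K : Type*} [Field K] {E : Type*} [Group E]

theorem hD_E8 : chevE8 ∈ [chevG2, chevB2, chevD4, chevF4, chevE6, chevE7, chevE8] := by simp

theorem chevE8_not_mem : chevE8 ∉ [chevB2, chevG2] := by
  intro h
  simp only [List.mem_cons, List.not_mem_nil, or_false] at h
  rcases h with h | h
  · have := congrArg ChevalleyDatum.rank h
    revert this
    decide
  · have := congrArg ChevalleyDatum.rank h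
    revert this
    decide

/-- every central extension of the group of type `E₈` presented by (R1), (R2) splits -/
theorem exists_section_E8 (ψ : E →* chevE8.SteinbergCover K)
    (hψ : Function.Surjective ψ) (hc : ψ.ker ≤ Subgroup.center E) :
    ∃ τ : chevE8.SteinbergCover K →* E, ψ.comp τ = MonoidHom.id _ := by
  by_cases hK : ∀ x : K, x = 0 ∨ x = 1
  · exact exists_section_two hD_E8 hK (fun r s hr hs h1 h2 => sl1_E8 hr hs h1 h2)
      (fun r s hr hs h1 h2 h => dec1_E8 hr hs h1 h2 h) (fun q hq => Helper10.canP_E8_spare hq) ψ hψ hc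
  · have hK3 : ∃ c : K, c ≠ 0 ∧ c ≠ 1 := by
      by_contra h
      apply hK
      intro x
      by_contra hx
      exact h ⟨x, fun h0 => hx (Or.inl h0), fun h1 => hx (Or.inr h1)⟩
    obtain ⟨c, hc0, hc1⟩ := hK3
    have hperf : commutator (chevE8.SteinbergCover K) = ⊤ :=
      Cfsg.Agent.S2395.result chevE8 hD_E8 (fun h => absurd h chevE8_not_mem)
    exact Cfsg.Agent.Lib.Helper16.F4CC.exists_section_gen hD_E8 ⟨c, hc0, hc1⟩ hperf
      (fun r hr => commData1_E8 hr)
      (fun r s hr hs h1 h2 => Or.inl (perp1_E8 hr hs h1 h2)) ψ hψ hc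

end Cfsg.Agent.Lib.Helper10.E8CC
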